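import Cfsg.Agent.Linear.Elusive.Cases

/-!
A criterion for every admissible endomorphism to have a property, `r` prime to the characteristic.
-/

set_option autoImplicit false
set_option linter.unusedSectionVars false

namespace Cfsg.Agent.Linear.Elusive

open Polynomial Module

universe u v

variable {F : Type u} [Field F] [Fintype F] {p : ℕ} [Fact p.Prime] [CharP F p] {q r n : ℕ}
  [Fact r.Prime]

/-- A scalar which is no `r`-th power occurs with determinant one. -/
def Bad (F : Type u) [Field F] (r n : ℕ) : Prop :=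
  r ∣ n ∧ ∃ c : F, (∀ b : F, b ^ r ≠ c) ∧ ((-1) ^ r * (-c)) ^ (n / r) = 1

theorem sign_eq (c : F) : ((-1 : F) ^ r * -c) = (-1) ^ (r + 1) * c := by ring

theorem pow_r_of_not_dvd (hq : Fintype.card F = q) (h : ¬ r ∣ q - 1) {x : F} (hx : x ≠ 0)
    (hxr : x ^ r = 1) : x = 1 := by
  have h1 : orderOf (Units.mk0 x hx) ∣ r := orderOf_dvd_of_pow_eq_one (Units.ext (by simpa using hxr))
  have h2 : orderOf (Units.mk0 x hx) ∣ q - 1 := by
    have h3 := orderOf_dvd_natCard (Units.mk0 x hx)
    rwa [Nat.card_units, Nat.card_eq_fintype_card, hq] at h3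
  have h4 : orderOf (Units.mk0 x hx) = 1 := ((Nat.dvd_prime Fact.out).1 h1).resolve_right fun e => h (e ▸ h2)
  exact congrArg Units.val (_root_.orderOf_eq_one_iff.1 h4 : Units.mk0 x hx = 1)

theorem exists_root_of_not_dvd (hq : Fintype.card F = q) (h : ¬ r ∣ q - 1) (c : F) :
    ∃ b : F, b ^ r = c := by
  by_cases hc : c = 0
  · exact ⟨0, by rw [hc, zero_pow (Fact.out : r.Prime).ne_zero]⟩
  obtain ⟨b, hb⟩ := (powCoprime (G := Fˣ) (n := r) (by
    rw [Nat.card_units, Nat.card_eq_fintype_card, hq]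
    exact (((Fact.out : r.Prime).coprime_iff_not_dvd).2 h).symm)).surjective (Units.mk0 c hc)
  exact ⟨(b : F), by simpa using congrArg Units.val hb⟩

theorem bad_iff (hq : Fintype.card F = q) (hrp : r ≠ p) (hn : 1 ≤ n) (hdvd : r ∣ q - 1) :
    Bad F r n ↔ ¬ (padicValNat r n ≤ padicValNat r (q - 1) ∧ (r = 2 → Even n → q % 4 = 1)) := by
  have hr := (Fact.out : r.Prime)
  have h2q : 2 ≤ q := hq ▸ Fintype.one_lt_card
  set N := q - 1
  have hN0 : N ≠ 0 := by omega
  have hcard : ∀ x : F, x ≠ 0 → x ^ N = 1 := fun x hx => by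
    have := FiniteField.pow_card_sub_one_eq_one x hx
    rwa [hq] at this
  obtain ⟨g, hg⟩ := (inferInstance : IsCyclic Fˣ).exists_generator
  have hgN : orderOf g = N := by
    rw [orderOf_eq_card_of_forall_mem_zpowers hg, Nat.card_units, Nat.card_eq_fintype_card, hq]
  have hnpow : ∀ c : F, c ≠ 0 → c ^ (N / r) ≠ 1 → ∀ b : F, b ^ r ≠ c := by
    intro c hc h b hb
    have hb0 : b ≠ 0 := fun e => hc (by rw [← hb, e, zero_pow hr.ne_zero])
    exact h (by rw [← hb, ← pow_mul, Nat.mul_div_cancel' hdvd, hcard b hb0])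
  constructor
  · rintro ⟨hrn, c, hc, hdet⟩ ⟨hval, hfour⟩
    rw [sign_eq] at hdet
    have hc0 : c ≠ 0 := fun e => hc 0 (by rw [e, zero_pow hr.ne_zero])
    set k := n / r
    have hnk : n = r * k := (Nat.mul_div_cancel' hrn).symm
    have hk0 : k ≠ 0 := fun e => by rw [hnk, e, mul_zero] at hn; omega
    have hy0 : (-1 : F) ^ (r + 1) * c ≠ 0 := mul_ne_zero (pow_ne_zero _ (neg_ne_zero.2 one_ne_zero)) hc0
    have hgcd := pow_gcd_eq_one.2 ⟨hdet, hcard _ hy0⟩
    obtain ⟨h', hh'⟩ := Nat.gcd_dvd_right k N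
    have hh0 : h' ≠ 0 := fun e => hN0 (by rw [hh', e, mul_zero])
    have hg0 : Nat.gcd k N ≠ 0 := fun e => hN0 (by rw [hh', e, zero_mul])
    have hrh : r ∣ h' := by
      by_contra hnd
      have e1 : padicValNat r N = padicValNat r (Nat.gcd k N) := by
        conv_lhs => rw [hh']
        rw [padicValNat.mul hg0 hh0, padicValNat.eq_zero_of_not_dvd hnd, add_zero]
      have e2 : padicValNat r (Nat.gcd k N) ≤ padicValNat r k := by
        obtain ⟨d, hd⟩ := Nat.gcd_dvd_left k N
        have hd0 : d ≠ 0 := fun e => hk0 (by rw [hd, e, mul_zero])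
        conv_rhs => rw [hd, padicValNat.mul hg0 hd0]
        omega
      rw [hnk, padicValNat.mul hr.ne_zero hk0, padicValNat.self hr.one_lt] at hval
      omega
    obtain ⟨h'', hh''⟩ := hrh
    have hNr : N / r = Nat.gcd k N * h'' := by
      conv_lhs => rw [hh', hh'', mul_left_comm]
      rw [Nat.mul_div_cancel_left _ hr.pos]
    have hyp : ((-1 : F) ^ (r + 1) * c) ^ (N / r) = 1 := by rw [hNr, pow_mul, hgcd, one_pow]
    obtain ⟨b, hb⟩ : ∃ b : F, b ^ r = c := by
      have hsign : ((-1 : F) ^ (r + 1)) ^ (N / r) = 1 := by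
        rw [← pow_mul]
        rcases hr.eq_two_or_odd' with rfl | hodd
        · have h4 := hfour rfl (even_iff_two_dvd.2 hrn)
          exact Even.neg_one_pow ((even_iff_two_dvd.2 (show 2 ∣ N / 2 by omega)).mul_left _)
        · exact Even.neg_one_pow (hodd.add_one.mul_right _)
      rw [mul_pow, hsign, one_mul] at hyp
      obtain ⟨i, hi⟩ := mem_powers_iff_mem_zpowers.2 (hg (Units.mk0 c hc0))
      change g ^ i = _ at hi
      have h1 : g ^ (i * (N / r)) = 1 := by
        rw [pow_mul, hi]; exact Units.ext (by simpa using hyp)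
      have h2 := orderOf_dvd_of_pow_eq_one h1
      rw [hgN] at h2
      have hNr0 : 0 < N / r := Nat.div_pos (Nat.le_of_dvd (Nat.pos_of_ne_zero hN0) hdvd) hr.pos
      have h3 : r * (N / r) ∣ i * (N / r) := by rwa [Nat.mul_div_cancel' hdvd]
      obtain ⟨j, rfl⟩ := Nat.dvd_of_mul_dvd_mul_right hNr0 h3
      refine ⟨((g ^ j : Fˣ) : F), ?_⟩
      rw [← Units.val_pow_eq_pow_val, ← pow_mul, mul_comm j r, hi]
      rfl
    exact hc b hb
  · intro hnot
    by_cases hcase : r = 2 ∧ Even n ∧ q % 4 = 3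
    · obtain ⟨rfl, heven, hq4⟩ := hcase
      refine ⟨even_iff_two_dvd.1 heven, -1, hnpow _ (neg_ne_zero.2 one_ne_zero) ?_, by simp⟩
      rw [Odd.neg_one_pow ⟨N / 4, by omega⟩]
      intro h
      exact cast_ne_zero (F := F) hrp (by push_cast; linear_combination -h)
    · have hval : padicValNat r N < padicValNat r n := by
        by_contra hle
        refine hnot ⟨by omega, fun h2 heven => ?_⟩
        have : ¬ q % 4 = 3 := fun h => hcase ⟨h2, heven, h⟩
        subst h2
        omega
      have hrn : r ∣ n := dvd_of_one_le_padicValNat (by omega)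
      set k := n / r
      have hnk : n = r * k := (Nat.mul_div_cancel' hrn).symm
      have hk0 : k ≠ 0 := fun e => by rw [hnk, e, mul_zero] at hn; omega
      obtain ⟨v, h, hh, hNh⟩ := Nat.exists_eq_pow_mul_and_not_dvd hN0 r hr.ne_one
      have hh0 : h ≠ 0 := fun e => hh (e ▸ dvd_zero r)
      have hvN : padicValNat r N = v := by
        rw [hNh, padicValNat.mul (pow_ne_zero _ hr.ne_zero) hh0, padicValNat.prime_pow,
          padicValNat.eq_zero_of_not_dvd hh, add_zero]
      have hvk : r ^ v ∣ k := by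
        rw [padicValNat_dvd_iff v k]
        right
        rw [hnk, padicValNat.mul hr.ne_zero hk0, padicValNat.self hr.one_lt] at hval
        omega
      set y : F := ((g ^ h : Fˣ) : F) with hy
      have hyk : y ^ k = 1 := by
        obtain ⟨d, hd⟩ := hvk
        rw [hy, ← Units.val_pow_eq_pow_val, ← pow_mul,
          show h * k = N * d by rw [hd, hNh]; ring, pow_mul, ← hgN, pow_orderOf_eq_one, one_pow,
          Units.val_one]
      have hyr : y ^ (N / r) ≠ 1 := by
        rw [hy, ← Units.val_pow_eq_pow_val, ← pow_mul, ne_eq, Units.val_eq_one]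
        intro e
        have e1 := orderOf_dvd_of_pow_eq_one e
        rw [hgN] at e1
        have hNr0 : 0 < N / r := Nat.div_pos (Nat.le_of_dvd (Nat.pos_of_ne_zero hN0) hdvd) hr.pos
        refine hh (Nat.dvd_of_mul_dvd_mul_right hNr0 ?_)
        rwa [Nat.mul_div_cancel' hdvd]
      have hsign : ((-1 : F) ^ (r + 1)) ^ (N / r) = 1 := by
        rw [← pow_mul]
        rcases hr.eq_two_or_odd' with rfl | hodd
        · have h4 : q % 4 ≠ 3 := fun h' => hcase ⟨rfl, even_iff_two_dvd.2 hrn, h'⟩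
          exact Even.neg_one_pow ((even_iff_two_dvd.2 (show 2 ∣ N / 2 by omega)).mul_left _)
        · exact Even.neg_one_pow (hodd.add_one.mul_right _)
      refine ⟨hrn, (-1) ^ (r + 1) * y, hnpow _ (mul_ne_zero (pow_ne_zero _ (neg_ne_zero.2 one_ne_zero))
        (Units.ne_zero _)) (by rw [mul_pow, hsign, one_mul]; exact hyr), ?_⟩
      rw [sign_eq, ← mul_assoc, ← pow_add, Even.neg_one_pow ⟨r + 1, rfl⟩, one_mul, hyk]

theorem uniform_pow_sub_C {c : F} (hc : ∀ b : F, b ^ r ≠ c) :
    Irreducible (X ^ r - C c) ∧ (X ^ r - C c).Monic ∧ (X ^ r - C c).natDegree = r ∧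
      (X ^ r - C c).coeff 0 = -c := by
  have hr := (Fact.out : r.Prime)
  refine ⟨X_pow_sub_C_irreducible_of_prime hr hc, monic_X_pow_sub_C c hr.ne_zero,
    natDegree_X_pow_sub_C, ?_⟩
  rw [coeff_sub, coeff_X_pow, if_neg hr.ne_zero.symm, coeff_C_zero, zero_sub]

/-- An endomorphism for a bad scalar. -/
theorem exists_irreducible_witness (hn : 1 ≤ n) (h : Bad F r n) :
    ∃ (T : End F (Fin n → F)) (P : F[X]), LinearMap.det T = 1 ∧ (∃ c : F, T ^ r = c • 1) ∧
      (∀ c : F, T ≠ c • 1) ∧ Irreducible P ∧ P.natDegree = r ∧ aeval T P = 0 := by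
  obtain ⟨⟨k, rfl⟩, c, hc, hdet⟩ := h
  have hr := (Fact.out : r.Prime)
  obtain ⟨hP, hm, hdeg, hcoeff⟩ := uniform_pow_sub_C hc
  set P := X ^ r - C c
  haveI : Fact (Irreducible P) := ⟨hP⟩
  haveI : Module.Finite F (AdjoinRoot P) := hm.finite_adjoinRoot
  let e : (Fin k → AdjoinRoot P) ≃ₗ[F] (Fin (r * k) → F) := LinearEquiv.ofFinrankEq _ _ (by
    rw [Module.finrank_pi_fintype, Finset.sum_const, Finset.card_univ, Fintype.card_fin,
      ((AdjoinRoot.powerBasis hP.ne_zero).finrank).trans (AdjoinRoot.powerBasis_dim hP.ne_zero),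
      hdeg, Module.finrank_fin_fun, smul_eq_mul, mul_comm])
  let L : End F (Fin k → AdjoinRoot P) :=
    (AdjoinRoot.root P • (1 : End (AdjoinRoot P) (Fin k → AdjoinRoot P))).restrictScalars F
  have hLr : ∀ j : ℕ, ∀ v, (L ^ j) v = AdjoinRoot.root P ^ j • v := by
    intro j
    induction j with
    | zero => intro v; simp
    | succ j ih =>
      intro v
      rw [pow_succ', Module.End.mul_apply, ih, pow_succ', mul_smul]
      rfl
  have hroot : AdjoinRoot.root P ^ r = algebraMap F (AdjoinRoot P) c := by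
    have := AdjoinRoot.eval₂_root P
    simpa [P, sub_eq_zero] using this
  have hL : L ^ r = c • 1 := LinearMap.ext fun v => by
    rw [hLr, hroot, algebraMap_smul]
    rfl
  let T := e.conjAlgEquiv F L
  have hT : T ^ r = c • 1 := by
    show (e.conjAlgEquiv F L) ^ r = _
    rw [← map_pow, hL, map_smul, map_one]
  have hPT : aeval T P = 0 := by
    rw [map_sub, map_pow, aeval_X, aeval_C, hT, Algebra.algebraMap_eq_smul_one, sub_self]
  refine ⟨T, P, ?_, ⟨c, hT⟩, fun d hd => ?_, hP, hdeg, hPT⟩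
  · obtain ⟨k', hk', hd⟩ := det_of_irreducible hP hm hPT
    rw [Module.finrank_fin_fun, hdeg] at hk'
    rw [hd, hdeg, hcoeff, ← Nat.eq_of_mul_eq_mul_left hr.pos hk']
    rwa [Nat.mul_div_cancel_left k hr.pos] at hdet
  · haveI : Nonempty (Fin (r * k)) := ⟨⟨0, by omega⟩⟩
    rw [hd, _root_.smul_pow, one_pow] at hT
    exact hc d (smul_left_injective F one_ne_zero hT)

/-- An endomorphism with the smallest fixed space. -/
theorem exists_split_witness (hq : Fintype.card F = q) (hrp : r ≠ p)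
    (hi : 2 ≤ orderOf (q : ZMod r)) (hin : orderOf (q : ZMod r) ≤ n) :
    ∃ T : End F (Fin n → F), LinearMap.det T = 1 ∧ T ^ r = 1 ∧ (∀ c : F, T ≠ c • 1) ∧
      finrank F ↥(fixSpace T) = n % orderOf (q : ZMod r) := by
  have hr := (Fact.out : r.Prime)
  set i := orderOf (q : ZMod r) with hidef
  have hcdeg : 0 < (cyclotomic r F).natDegree := by
    rw [natDegree_cyclotomic, Nat.totient_prime hr]; have := hr.two_le; omega
  obtain ⟨g, hg, hgd⟩ := WfDvdMonoid.exists_irreducible_factor
    (not_isUnit_of_natDegree_pos _ hcdeg) (cyclotomic_ne_zero r F)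
  have hdeg : g.natDegree = i := (uniform_cyclotomic hq hrp).2 g hg hgd
  haveI : Fact (Irreducible g) := ⟨hg⟩
  haveI : Module.Finite F (AdjoinRoot g) :=
    (AdjoinRoot.powerBasis hg.ne_zero).finite
  let e : ((Fin (n % i) → F) × (Fin (n / i) → AdjoinRoot g)) ≃ₗ[F] (Fin n → F) :=
    LinearEquiv.ofFinrankEq _ _ (by
      rw [Module.finrank_prod, Module.finrank_fin_fun, Module.finrank_pi_fintype, Finset.sum_const,
        Finset.card_univ, Fintype.card_fin,
        ((AdjoinRoot.powerBasis hg.ne_zero).finrank).trans (AdjoinRoot.powerBasis_dim hg.ne_zero),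
        hdeg, Module.finrank_fin_fun, smul_eq_mul, mul_comm]
      exact Nat.mod_add_div n i)
  let L : End F ((Fin (n % i) → F) × (Fin (n / i) → AdjoinRoot g)) :=
    LinearMap.prodMap 1
      ((AdjoinRoot.root g • (1 : End (AdjoinRoot g) (Fin (n / i) → AdjoinRoot g))).restrictScalars F)
  have hLr : ∀ j : ℕ, ∀ v, (L ^ j) v = (v.1, AdjoinRoot.root g ^ j • v.2) := by
    intro j
    induction j with
    | zero => intro v; simp
    | succ j ih =>
      intro v
      rw [pow_succ', Module.End.mul_apply, ih, pow_succ', mul_smul]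
      rfl
  have hroot : AdjoinRoot.root g ^ r = 1 := by
    have h1 : g ∣ X ^ r - 1 := hgd.trans (Dvd.intro_left _ X_sub_one_mul_cyclotomic)
    have := AdjoinRoot.mk_eq_zero.2 h1
    rwa [map_sub, map_pow, AdjoinRoot.mk_X, map_one, sub_eq_zero] at this
  have hne1 : AdjoinRoot.root g ≠ 1 := by
    intro h
    have h1 : g ∣ X - 1 := AdjoinRoot.mk_eq_zero.1 (by
      rw [map_sub, AdjoinRoot.mk_X, map_one, h, sub_self])
    have := uniform_X_sub_one.2 g hg h1
    omega
  have hL : L ^ r = 1 := LinearMap.ext fun v => by rw [hLr, hroot, one_smul]; rfl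
  let T := e.conjAlgEquiv F L
  have hT : T ^ r = 1 := by
    show (e.conjAlgEquiv F L) ^ r = _
    rw [← map_pow, hL, map_one]
  have happ : ∀ v, T (e v) = e (L v) := fun v => by
    show e (L (e.symm (e v))) = _
    rw [e.symm_apply_apply]
  have hfix : finrank F ↥(fixSpace T) = n % i := by
    have hmap : fixSpace T = (Submodule.prod ⊤ ⊥).map e.toLinearMap := by
      ext v
      obtain ⟨w, rfl⟩ := e.surjective v
      rw [mem_fixSpace, happ, e.injective.eq_iff, Submodule.mem_map_equiv, e.symm_apply_apply,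
        Submodule.mem_prod, Prod.ext_iff]
      simp only [Submodule.mem_top, true_and, Submodule.mem_bot]
      constructor
      · rintro ⟨-, h⟩
        change AdjoinRoot.root g • w.2 = w.2 at h
        have h' : (AdjoinRoot.root g - 1) • w.2 = 0 := by rw [sub_smul, one_smul, h, sub_self]
        exact (smul_eq_zero.1 h').resolve_left (sub_ne_zero.2 hne1)
      · intro h
        exact ⟨rfl, by show AdjoinRoot.root g • w.2 = w.2; rw [h, smul_zero]⟩
    have hrange : (Submodule.prod ⊤ ⊥ : Submodule F ((Fin (n % i) → F) × (Fin (n / i) → AdjoinRoot g))) =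
        LinearMap.range (LinearMap.inl F (Fin (n % i) → F) (Fin (n / i) → AdjoinRoot g)) := by
      ext ⟨a, b⟩
      simp [eq_comm]
    rw [hmap, LinearEquiv.finrank_map_eq, hrange, LinearMap.finrank_range_of_inj LinearMap.inl_injective,
      Module.finrank_fin_fun]
  have hrq : ¬ r ∣ q - 1 := fun h => by
    have := (orderOf_eq_one_iff (F := F) hq).2 h
    omega
  refine ⟨T, ?_, hT, fun c hc => ?_, hfix⟩
  · have h1 : LinearMap.det T ^ r = 1 := by rw [← map_pow, hT, map_one]
    exact pow_r_of_not_dvd hq hrq (fun h => by rw [h, zero_pow hr.ne_zero] at h1; exact zero_ne_one h1) h1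
  · haveI : Nonempty (Fin n) := ⟨⟨0, by omega⟩⟩
    rw [hc, _root_.smul_pow, one_pow] at hT
    have hc1 : c ^ r = 1 := smul_left_injective F (one_ne_zero (α := End F (Fin n → F)))
      (show c ^ r • (1 : End F (Fin n → F)) = (1 : F) • 1 by rw [hT, one_smul])
    have hc0 : c ≠ 0 := fun h => by rw [h, zero_pow hr.ne_zero] at hc1; exact zero_ne_one hc1
    rw [pow_r_of_not_dvd hq hrq hc0 hc1, one_smul] at hc
    have htop : fixSpace T = ⊤ := by
      rw [eq_top_iff]
      intro v _
      rw [mem_fixSpace, hc, Module.End.one_apply]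
    rw [htop, finrank_top, Module.finrank_fin_fun] at hfix
    have := Nat.mod_lt n (show 0 < i by omega)
    omega

/-- The criterion. -/
theorem criterion (hq : Fintype.card F = q) (hrp : r ≠ p) (hn : 1 ≤ n) (m : ℕ)
    (Q : End F (Fin n → F) → Prop) (Cs : Prop) (hscale : ∀ (T : End F (Fin n → F)) (d : F), d ≠ 0 → Q (d • T) → Q T)
    (h1 : ∀ T : End F (Fin n → F), T ^ r = 1 → Cs → Q T)
    (h3 : ∀ (T : End F (Fin n → F)) (P : F[X]), Uniform P r → Squarefree P → aeval T P = 0 → r ∣ n → r ∣ m → Q T)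
    (h4 : ∀ (T : End F (Fin n → F)) (P : F[X]), Uniform P r → aeval T P = 0 → ¬ r ∣ m → ¬ Q T)
    (h5 : ∀ T : End F (Fin n → F), T ^ r = 1 → finrank F ↥(fixSpace T) = n % orderOf (q : ZMod r) → Q T → Cs)
    (hC1 : orderOf (q : ZMod r) = 1 → Cs) (hCn : n < orderOf (q : ZMod r) → Cs) :
    (∀ T : End F (Fin n → F), LinearMap.det T = 1 → (∃ c : F, T ^ r = c • 1) →
      (∀ c : F, T ≠ c • 1) → Q T) ↔
    ((orderOf (q : ZMod r) = 1 ∧ (r ∣ m ∨ (padicValNat r n ≤ padicValNat r (q - 1) ∧
        (r = 2 → Even n → q % 4 = 1)))) ∨ (2 ≤ orderOf (q : ZMod r) ∧ Cs)) := by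
  have hr := (Fact.out : r.Prime)
  have hi := orderOf_pos_of_ne (F := F) hq hrp
  constructor
  · intro hall
    rcases Nat.lt_or_ge (orderOf (q : ZMod r)) 2 with hlt | hge
    · have hone : orderOf (q : ZMod r) = 1 := by omega
      refine Or.inl ⟨hone, ?_⟩
      by_contra hnot
      push Not at hnot
      have hbad : Bad F r n := (bad_iff hq hrp hn ((orderOf_eq_one_iff (F := F) hq).1 hone)).2
        fun h => absurd h.2 (by push Not; exact hnot.2 h.1)
      obtain ⟨T, P, hd, hc, hns, hP, hdeg, hPT⟩ := exists_irreducible_witness hn hbad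
      exact h4 T P (hdeg ▸ uniform_of_irreducible hP) hPT hnot.1 (hall T hd hc hns)
    · refine Or.inr ⟨hge, ?_⟩
      by_cases hin : n < orderOf (q : ZMod r)
      · exact hCn hin
      · obtain ⟨T, hd, hT, hns, hfix⟩ := exists_split_witness (n := n) hq hrp hge (by omega)
        exact h5 T hT hfix (hall T hd ⟨1, by rw [hT, one_smul]⟩ hns)
  · intro hcond T hd ⟨c, hc⟩ hns
    have hCs : Cs := by
      rcases hcond with ⟨h, -⟩ | ⟨-, h⟩
      · exact hC1 h
      · exact h
    have hc0 : c ≠ 0 := by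
      intro h
      have h2 := congrArg LinearMap.det hc
      rw [map_pow, hd, one_pow, h, zero_smul] at h2
      rw [LinearMap.det_zero, zero_pow (by rw [Module.finrank_fin_fun]; omega)] at h2
      exact one_ne_zero h2
    by_cases hpow : ∃ d : F, d ^ r = c
    · obtain ⟨d, hd'⟩ := hpow
      have hd0 : d ≠ 0 := fun h => hc0 (by rw [← hd', h, zero_pow hr.ne_zero])
      refine hscale T d⁻¹ (inv_ne_zero hd0) (h1 _ ?_ hCs)
      rw [_root_.smul_pow, hc, smul_smul, inv_pow, hd', inv_mul_cancel₀ hc0, one_smul]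
    · push Not at hpow
      have hdvd : r ∣ q - 1 := by
        by_contra h
        obtain ⟨b, hb⟩ := exists_root_of_not_dvd (F := F) hq h c
        exact hpow b hb
      obtain ⟨hP, hm, hdeg, hcoeff⟩ := uniform_pow_sub_C hpow
      have hPT : aeval T (X ^ r - C c) = 0 := by
        rw [map_sub, map_pow, aeval_X, aeval_C, hc, Algebra.algebraMap_eq_smul_one, sub_self]
      obtain ⟨k, hk, hdet⟩ := det_of_irreducible hP hm hPT
      rw [Module.finrank_fin_fun, hdeg] at hk
      rcases hcond with ⟨-, hrm | hgood⟩ | ⟨h2, -⟩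
      · have hu := uniform_of_irreducible hP
        rw [hdeg] at hu
        exact h3 T _ hu hP.squarefree hPT ⟨k, hk⟩ hrm
      · refine absurd hgood ((bad_iff hq hrp hn hdvd).1 ⟨⟨k, hk⟩, c, hpow, ?_⟩)
        rw [hk, Nat.mul_div_cancel_left k hr.pos]
        rwa [hd, hdeg, hcoeff, eq_comm] at hdet
      · have := (orderOf_eq_one_iff (F := F) hq).2 hdvd
        omega

/-- Statements about matrices of determinant one. -/
theorem forall_SL_iff (Q : End F (Fin n → F) → Prop) :
    (∀ x : Matrix.SpecialLinearGroup (Fin n) F,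
      (∃ c : F, ((x ^ r : Matrix.SpecialLinearGroup (Fin n) F) : Matrix (Fin n) (Fin n) F) =
        c • (1 : Matrix (Fin n) (Fin n) F)) →
      (∀ c : F, (x : Matrix (Fin n) (Fin n) F) ≠ c • (1 : Matrix (Fin n) (Fin n) F)) →
      Q (Matrix.toLin' (x : Matrix (Fin n) (Fin n) F))) ↔
    ∀ T : End F (Fin n → F), LinearMap.det T = 1 → (∃ c : F, T ^ r = c • 1) →
      (∀ c : F, T ≠ c • 1) → Q T := by
  have hA : ∀ A : Matrix (Fin n) (Fin n) F, Matrix.toLinAlgEquiv' A = Matrix.toLin' A := fun _ => rfl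
  constructor
  · intro h T hd ⟨c, hc⟩ hns
    obtain ⟨A, rfl⟩ := (Matrix.toLinAlgEquiv' : Matrix (Fin n) (Fin n) F ≃ₐ[F] _).surjective T
    have hdA : A.det = 1 := by rw [← LinearMap.det_toLin', ← hA, hd]
    refine h ⟨A, hdA⟩ ⟨c, ?_⟩ fun d hd' => hns d ?_
    · show A ^ r = _
      refine Matrix.toLinAlgEquiv'.injective ?_
      rw [map_pow, hc, map_smul, map_one]
    · change A = _ at hd'
      rw [hd', map_smul, map_one]
  · intro h x ⟨c, hc⟩ hns
    refine h _ (by rw [LinearMap.det_toLin']; exact x.2) ⟨c, ?_⟩ fun d hd => hns d ?_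
    · rw [← hA, ← map_pow, ← Matrix.SpecialLinearGroup.coe_pow, hc, map_smul, map_one]
    · refine Matrix.toLinAlgEquiv'.injective ?_
      rw [hA, hd, map_smul, map_one]

theorem char_dvd (hq : Fintype.card F = q) : p ∣ q := by
  obtain ⟨k, -, hk⟩ := FiniteField.card F p
  rw [hq] at hk
  exact hk ▸ dvd_pow_self p k.pos.ne'

end Cfsg.Agent.Linear.Elusive
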