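import Mathlib

/-!
Invariant subspaces of an endomorphism killed by a polynomial all of whose irreducible factors have
one degree.
-/

set_option autoImplicit false
set_option linter.unusedSectionVars false

namespace Cfsg.Agent.Linear.Elusive

open Polynomial Module

variable {F V : Type*} [Field F] [AddCommGroup V] [Module F V]

/-- Every irreducible factor has degree `d`. -/
def Uniform (P : F[X]) (d : ℕ) : Prop :=
  P ≠ 0 ∧ ∀ g : F[X], Irreducible g → g ∣ P → g.natDegree = d

/-- Mapped into itself. -/
def Inv (T : End F V) (U : Submodule F V) : Prop := U.map T ≤ U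

theorem Inv.mem {T : End F V} {U : Submodule F V} (h : Inv T U) {v : V} (hv : v ∈ U) : T v ∈ U :=
  h (Submodule.mem_map_of_mem hv)

theorem Inv.aeval_mem {T : End F V} {U : Submodule F V} (h : Inv T U) (f : F[X]) {v : V} (hv : v ∈ U) :
    aeval T f v ∈ U := by
  induction f using Polynomial.induction_on' with
  | add f g hf hg => rw [map_add, LinearMap.add_apply]; exact add_mem hf hg
  | monomial k a =>
    rw [aeval_monomial, Module.End.mul_apply, Module.algebraMap_end_apply]
    refine U.smul_mem a ?_
    induction k with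
    | zero => simpa using hv
    | succ k ih => rw [pow_succ', Module.End.mul_apply]; exact h.mem ih

theorem inv_bot (T : End F V) : Inv T ⊥ := by simp [Inv]

theorem inv_top (T : End F V) : Inv T ⊤ := le_top

theorem Inv.sup {T : End F V} {U W : Submodule F V} (hU : Inv T U) (hW : Inv T W) : Inv T (U ⊔ W) := by
  rw [Inv, Submodule.map_sup]
  exact sup_le_sup hU hW

theorem Inv.inf {T : End F V} {U W : Submodule F V} (hU : Inv T U) (hW : Inv T W) : Inv T (U ⊓ W) :=
  (Submodule.map_inf_le _).trans (inf_le_inf hU hW)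

/-- A vector outside an invariant subspace killed into it by a polynomial yields one for an irreducible factor. -/
theorem exists_factor {T : End F V} {U A : Submodule F V} (hU : Inv T U) (hA : Inv T A) (P : F[X])
    (hP : P ≠ 0) : ∀ v ∈ A, v ∉ U → aeval T P v ∈ U →
      ∃ g : F[X], Irreducible g ∧ g ∣ P ∧ ∃ w ∈ A, w ∉ U ∧ aeval T g w ∈ U := by
  induction P using UniqueFactorizationMonoid.induction_on_prime with
  | h₁ => exact absurd rfl hP
  | h₂ P hPu =>
    intro v _ hv hPv
    obtain ⟨Q, hQ⟩ := hPu.exists_left_inv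
    have := hU.aeval_mem Q hPv
    rw [← Module.End.mul_apply, ← map_mul, hQ, map_one, Module.End.one_apply] at this
    exact absurd this hv
  | h₃ a g ha hg ih =>
    intro v hvA hv hPv
    by_cases hw : aeval T a v ∈ U
    · obtain ⟨g', h1, h2, h3⟩ := ih ha v hvA hv hw
      exact ⟨g', h1, dvd_mul_of_dvd_right h2 g, h3⟩
    · refine ⟨g, hg.irreducible, dvd_mul_right g a, _, hA.aeval_mem a hvA, hw, ?_⟩
      rwa [← Module.End.mul_apply, ← map_mul]

variable [FiniteDimensional F V]

/-- One step above an invariant subspace. -/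
theorem exists_step {T : End F V} {P : F[X]} {d : ℕ} (hP : Uniform P d) {U A : Submodule F V}
    (hU : Inv T U) (hA : Inv T A) (hUA : U ≤ A) (hkill : ∀ v ∈ A, aeval T P v = 0) (hne : U ≠ A) :
    ∃ U' : Submodule F V, U ≤ U' ∧ U' ≤ A ∧ Inv T U' ∧ finrank F U' = finrank F U + d := by
  obtain ⟨v, hvA, hv⟩ := SetLike.exists_of_lt (lt_of_le_of_ne hUA hne)
  obtain ⟨g, hg, hgP, w, hwA, hw, hgw⟩ :=
    exists_factor hU hA P hP.1 v hvA hv (by rw [hkill v hvA]; exact zero_mem _)
  have hd := hP.2 g hg hgP
  let φ : F[X] →ₗ[F] V ⧸ U :=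
    U.mkQ.comp ((LinearMap.applyₗ w).comp (aeval T).toLinearMap)
  have hφ : ∀ f, φ f = U.mkQ (aeval T f w) := fun f => rfl
  have hker : LinearMap.ker φ = (Ideal.span {g}).restrictScalars F := by
    ext f
    rw [LinearMap.mem_ker, hφ, Submodule.mkQ_apply, Submodule.Quotient.mk_eq_zero,
      Submodule.restrictScalars_mem, Ideal.mem_span_singleton]
    constructor
    · intro hf
      by_contra hndvd
      obtain ⟨a, b, hab⟩ := (hg.coprime_iff_not_dvd).mpr hndvd
      apply hw
      have : aeval T (a * g + b * f) w = w := by rw [hab, map_one, Module.End.one_apply]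
      rw [← this, map_add, LinearMap.add_apply, map_mul, map_mul, Module.End.mul_apply, Module.End.mul_apply]
      exact add_mem (hU.aeval_mem a hgw) (hU.aeval_mem b hf)
    · rintro ⟨c, rfl⟩
      rw [mul_comm, map_mul, Module.End.mul_apply]
      exact hU.aeval_mem c hgw
  have hrange : finrank F (LinearMap.range φ) = d := by
    rw [← φ.quotKerEquivRange.finrank_eq, hker,
      (Submodule.Quotient.restrictScalarsEquiv F (Ideal.span {g})).finrank_eq, ← hd]
    exact ((AdjoinRoot.powerBasis hg.ne_zero).finrank).trans (AdjoinRoot.powerBasis_dim hg.ne_zero)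
  refine ⟨(LinearMap.range φ).comap U.mkQ, ?_, ?_, ?_, ?_⟩
  · intro x hx
    rw [Submodule.mem_comap, Submodule.mkQ_apply, (Submodule.Quotient.mk_eq_zero U).mpr hx]
    exact zero_mem _
  · intro x hx
    obtain ⟨f, hf⟩ := hx
    rw [hφ, Submodule.mkQ_apply, Submodule.mkQ_apply, Submodule.Quotient.eq] at hf
    have := sub_mem (hA.aeval_mem f hwA) (hUA hf)
    simpa using this
  · rintro _ ⟨x, ⟨f, hf⟩, rfl⟩
    refine ⟨X * f, ?_⟩
    rw [hφ, Submodule.mkQ_apply, Submodule.mkQ_apply, Submodule.Quotient.eq] at hf ⊢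
    rw [map_mul, aeval_X, Module.End.mul_apply, ← map_sub]
    exact hU.mem hf
  · have h1 := Submodule.finrank_quotient_add_finrank U
    set S := LinearMap.range φ
    have h2 := LinearMap.finrank_range_add_finrank_ker (U.mkQ.domRestrict (S.comap U.mkQ))
    have h3 : LinearMap.range (U.mkQ.domRestrict (S.comap U.mkQ)) = S := by
      rw [LinearMap.range_domRestrict, Submodule.map_comap_eq, Submodule.range_mkQ, top_inf_eq]
    have h4 : finrank F (LinearMap.ker (U.mkQ.domRestrict (S.comap U.mkQ))) = finrank F U := by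
      rw [LinearMap.ker_domRestrict, Submodule.ker_mkQ]
      exact (Submodule.comapSubtypeEquivOfLe (fun x hx => by
        rw [Submodule.mem_comap, Submodule.mkQ_apply, (Submodule.Quotient.mk_eq_zero U).mpr hx]
        exact zero_mem _)).finrank_eq
    rw [h3, h4, hrange] at h2
    rw [← h2]
    ring

theorem dvd_sub_finrank {T : End F V} {P : F[X]} {d : ℕ} (hP : Uniform P d) {A : Submodule F V}
    (hA : Inv T A) (hkill : ∀ v ∈ A, aeval T P v = 0) {U : Submodule F V} (hU : Inv T U) (hUA : U ≤ A) :
    d ∣ finrank F A - finrank F U := by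
  induction hk : finrank F A - finrank F U using Nat.strong_induction_on generalizing U with
  | _ k ih =>
    by_cases hne : U = A
    · rw [← hk, hne, Nat.sub_self]
      exact dvd_zero _
    · obtain ⟨U', h1, h2, h3, h4⟩ := exists_step hP hU hA hUA hkill hne
      have h5 := Submodule.finrank_mono h2
      rcases Nat.eq_zero_or_pos d with hd | hd
      · rw [hd, add_zero] at h4
        have h6 := Submodule.eq_of_le_of_finrank_eq h1 h4.symm
        exfalso
        obtain ⟨v, hvA, hv⟩ := SetLike.exists_of_lt (lt_of_le_of_ne hUA hne)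
        obtain ⟨g, hg, hgP, -⟩ :=
          exists_factor hU hA P hP.1 v hvA hv (by rw [hkill v hvA]; exact zero_mem _)
        have := hg.natDegree_pos
        rw [hP.2 g hg hgP, hd] at this
        omega
      · have := ih (finrank F A - finrank F U') (by omega) h3 h2 rfl
        have h7 := Nat.dvd_add this (dvd_refl d)
        rwa [show finrank F A - finrank F U' + d = k by omega] at h7

theorem dvd_finrank {T : End F V} {P : F[X]} {d : ℕ} (hP : Uniform P d) {A : Submodule F V}
    (hA : Inv T A) (hkill : ∀ v ∈ A, aeval T P v = 0) : d ∣ finrank F A := by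
  simpa using dvd_sub_finrank hP hA hkill (inv_bot T) bot_le

theorem exists_above {T : End F V} {P : F[X]} {d : ℕ} (hP : Uniform P d) {U A : Submodule F V}
    (hU : Inv T U) (hA : Inv T A) (hUA : U ≤ A) (hkill : ∀ v ∈ A, aeval T P v = 0) (s : ℕ)
    (hs : finrank F U + s * d ≤ finrank F A) :
    ∃ U' : Submodule F V, U ≤ U' ∧ U' ≤ A ∧ Inv T U' ∧ finrank F U' = finrank F U + s * d := by
  induction s with
  | zero => exact ⟨U, le_rfl, hUA, hU, by simp⟩
  | succ s ih =>
    rw [add_one_mul] at hs ⊢
    obtain ⟨U', h1, h2, h3, h4⟩ := ih (by omega)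
    by_cases hd : d = 0
    · exact ⟨U', h1, h2, h3, by omega⟩
    obtain ⟨U'', k1, k2, k3, k4⟩ := exists_step hP h3 hA h2 hkill (fun e => by rw [e] at h4; omega)
    exact ⟨U'', h1.trans k1, k2, k3, by omega⟩

theorem exists_inv_finrank {T : End F V} {P : F[X]} {d : ℕ} (hP : Uniform P d) {A : Submodule F V}
    (hA : Inv T A) (hkill : ∀ v ∈ A, aeval T P v = 0) (s : ℕ) (hs : s * d ≤ finrank F A) :
    ∃ U : Submodule F V, U ≤ A ∧ Inv T U ∧ finrank F U = s * d := by
  obtain ⟨U, -, h2, h3, h4⟩ := exists_above hP (inv_bot T) hA bot_le hkill s (by simpa using hs)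
  exact ⟨U, h2, h3, by simpa using h4⟩

theorem kill_top {T : End F V} {P : F[X]} (h : aeval T P = 0) : ∀ v ∈ (⊤ : Submodule F V), aeval T P v = 0 :=
  fun v _ => by rw [h, LinearMap.zero_apply]

/-- Invariant complements. -/
theorem exists_compl {T : End F V} {P : F[X]} (hsq : Squarefree P) (h : aeval T P = 0) {U : Submodule F V}
    (hU : Inv T U) : ∃ W : Submodule F V, Inv T W ∧ IsCompl U W := by
  obtain ⟨W, hW, hc⟩ := (Module.End.isSemisimple_iff.mp
    (Module.End.isSemisimple_of_squarefree_aeval_eq_zero hsq h)) U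
    ((Module.End.mem_invtSubmodule_iff_map_le T).mpr hU)
  exact ⟨W, (Module.End.mem_invtSubmodule_iff_map_le T).mp hW, hc⟩

end Cfsg.Agent.Linear.Elusive
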