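import Mathlib

/-!
The numbers of subspaces, of flags and of decompositions, and primes dividing them.
-/

set_option autoImplicit false
set_option linter.unusedSectionVars false

namespace Cfsg.Agent.Linear.Elusive

open Module Finset

/-- `∏_{s=1}^t (q^s - 1)`. -/
def pfac (q t : ℕ) : ℕ := ∏ s ∈ Finset.range t, (q ^ (s + 1) - 1)

theorem pfac_pos {q : ℕ} (hq : 1 < q) (t : ℕ) : 0 < pfac q t :=
  Finset.prod_pos fun s _ => by
    have := Nat.one_lt_pow (show s + 1 ≠ 0 by omega) hq
    omega

theorem pfac_split (q : ℕ) {t n : ℕ} (h : t ≤ n) :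
    pfac q n = pfac q (n - t) * ∏ s ∈ Finset.Ico (n - t) n, (q ^ (s + 1) - 1) :=
  (Finset.prod_range_mul_prod_Ico _ (by omega)).symm

theorem prod_sub_pow (q : ℕ) {m d : ℕ} (h : m ≤ d) :
    (∏ l : Fin m, (q ^ d - q ^ (l : ℕ))) * pfac q (d - m) =
      (∏ l : Fin m, q ^ (l : ℕ)) * pfac q d := by
  induction m with
  | zero => simp
  | succ m ih =>
    rw [Fin.prod_univ_castSucc, Fin.prod_univ_castSucc]
    simp only [Fin.val_castSucc, Fin.val_last]
    have e : pfac q (d - m) = pfac q (d - (m + 1)) * (q ^ (d - m) - 1) := by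
      rw [pfac, show d - m = (d - (m + 1)) + 1 by omega, Finset.prod_range_succ]
      rfl
    have e2 : q ^ d - q ^ m = q ^ m * (q ^ (d - m) - 1) := by
      rw [Nat.mul_sub, mul_one, ← pow_add, Nat.add_sub_cancel' (by omega)]
    rw [e2]
    calc _ = (∏ l : Fin m, (q ^ d - q ^ (l : ℕ))) * (pfac q (d - (m + 1)) * (q ^ (d - m) - 1)) * q ^ m := by ring
      _ = _ := by rw [← e, ih (by omega)]; ring

variable {F V : Type*} [Field F] [Fintype F] [AddCommGroup V] [Module F V] [Finite V]

theorem card_subspace_mul (m : ℕ) (hm : m ≤ finrank F V) :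
    Nat.card {W : Submodule F V // finrank F W = m} * (pfac (Fintype.card F) m *
      pfac (Fintype.card F) (finrank F V - m)) = pfac (Fintype.card F) (finrank F V) := by
  classical
  have : Fintype {W : Submodule F V // finrank F W = m} := Fintype.ofFinite _
  let f : {s : Fin m → V // LinearIndependent F s} → {W : Submodule F V // finrank F W = m} :=
    fun s => ⟨Submodule.span F (Set.range s.1), by rw [finrank_span_eq_card s.2, Fintype.card_fin]⟩
  have hfib : ∀ W, Nat.card {s // f s = W} = ∏ l : Fin m, (Fintype.card F ^ m - Fintype.card F ^ (l : ℕ)) := by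
    rintro ⟨W, hW⟩
    have h := card_linearIndependent (K := F) (V := W) (k := m) (by omega)
    rw [hW] at h
    rw [← h]
    refine Nat.card_congr
      { toFun := fun s => ⟨fun i => ⟨s.1.1 i, by
            have e : Submodule.span F (Set.range s.1.1) = W := congrArg Subtype.val s.2
            exact e.le (Submodule.subset_span ⟨i, rfl⟩)⟩,
          LinearIndependent.of_comp W.subtype s.1.2⟩
        invFun := fun g => ⟨⟨fun i => (g.1 i : V), g.2.map' W.subtype W.ker_subtype⟩, by
          refine Subtype.ext (Submodule.eq_of_le_of_finrank_eq ?_ ?_)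
          · rw [Submodule.span_le]
            rintro _ ⟨i, rfl⟩
            exact (g.1 i).2
          · show finrank F (Submodule.span F (Set.range fun i => (g.1 i : V))) = finrank F W
            exact (finrank_span_eq_card (g.2.map' W.subtype W.ker_subtype)).trans ((Fintype.card_fin m).trans hW.symm)⟩
        left_inv := fun s => rfl
        right_inv := fun g => rfl }
  have hT := Nat.card_congr (Equiv.sigmaFiberEquiv f).symm
  rw [card_linearIndependent hm, Nat.card_sigma, Finset.sum_congr rfl (fun W _ => hfib W), Finset.sum_const,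
    Finset.card_univ, ← Nat.card_eq_fintype_card (α := {W : Submodule F V // finrank F W = m}), smul_eq_mul] at hT
  set q := Fintype.card F
  have h1 := prod_sub_pow q hm
  have h2 := prod_sub_pow q (le_refl m)
  rw [Nat.sub_self, show pfac q 0 = 1 from rfl, mul_one] at h2
  rw [hT, h2] at h1
  have hQ : 0 < ∏ l : Fin m, q ^ (l : ℕ) := Finset.prod_pos fun l _ => pow_pos Fintype.card_pos _
  refine Nat.eq_of_mul_eq_mul_left hQ ?_
  rw [← h1]
  ring

theorem card_flag_mul (m : ℕ) (hm : 2 * m ≤ finrank F V) :
    Nat.card {P : Submodule F V × Submodule F V //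
        P.1 ≤ P.2 ∧ finrank F P.1 = m ∧ finrank F P.2 = finrank F V - m} *
      (pfac (Fintype.card F) m * pfac (Fintype.card F) m * pfac (Fintype.card F) (finrank F V - 2 * m)) =
      pfac (Fintype.card F) (finrank F V) := by
  classical
  set d := finrank F V
  have : Fintype {U : Submodule F V // finrank F U = m} := Fintype.ofFinite _
  let e : {P : Submodule F V × Submodule F V // P.1 ≤ P.2 ∧ finrank F P.1 = m ∧ finrank F P.2 = d - m} ≃
      Σ U : {U : Submodule F V // finrank F U = m}, {W : Submodule F V // U.1 ≤ W ∧ finrank F W = d - m} :=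
    { toFun := fun P => ⟨⟨P.1.1, P.2.2.1⟩, ⟨P.1.2, P.2.1, P.2.2.2⟩⟩
      invFun := fun x => ⟨(x.1.1, x.2.1), x.2.2.1, x.1.2, x.2.2.2⟩
      left_inv := fun P => rfl
      right_inv := fun x => rfl }
  set q := Fintype.card F
  have hfib : ∀ U : {U : Submodule F V // finrank F U = m},
      Nat.card {W : Submodule F V // U.1 ≤ W ∧ finrank F W = d - m} *
        (pfac q (d - 2 * m) * pfac q m) = pfac q (d - m) := by
    rintro ⟨U, hU⟩
    have hq := Submodule.finrank_quotient_add_finrank U
    have : Finite (V ⧸ U) := Finite.of_surjective _ U.mkQ_surjective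
    have h := card_subspace_mul (F := F) (V := V ⧸ U) (d - 2 * m) (by omega)
    rw [show finrank F (V ⧸ U) - (d - 2 * m) = m by omega, show finrank F (V ⧸ U) = d - m by omega] at h
    rw [← h]
    congr 1
    have hdim : ∀ S : Submodule F (V ⧸ U), finrank F (S.comap U.mkQ) = finrank F S + m := by
      intro S
      have h2 := LinearMap.finrank_range_add_finrank_ker (U.mkQ.domRestrict (S.comap U.mkQ))
      have hle : U ≤ S.comap U.mkQ := fun x hx => by
        rw [Submodule.mem_comap, Submodule.mkQ_apply, (Submodule.Quotient.mk_eq_zero U).mpr hx]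
        exact zero_mem _
      rw [LinearMap.range_domRestrict, Submodule.map_comap_eq, Submodule.range_mkQ, top_inf_eq,
        LinearMap.ker_domRestrict, Submodule.ker_mkQ,
        (Submodule.comapSubtypeEquivOfLe hle).finrank_eq, hU] at h2
      exact h2.symm
    refine Nat.card_congr
      { toFun := fun W => ⟨W.1.map U.mkQ, ?_⟩
        invFun := fun S => ⟨S.1.comap U.mkQ, ?_, ?_⟩
        left_inv := fun W => Subtype.ext ?_
        right_inv := fun S => Subtype.ext ?_ }
    · have h3 := hdim (W.1.map U.mkQ)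
      rw [Submodule.comap_map_eq, Submodule.ker_mkQ, sup_eq_left.mpr W.2.1, W.2.2] at h3
      omega
    · intro x hx
      rw [Submodule.mem_comap, Submodule.mkQ_apply, (Submodule.Quotient.mk_eq_zero U).mpr hx]
      exact zero_mem _
    · rw [hdim, S.2]
      omega
    · show (W.1.map U.mkQ).comap U.mkQ = W.1
      rw [Submodule.comap_map_eq, Submodule.ker_mkQ, sup_eq_left.mpr W.2.1]
    · show (S.1.comap U.mkQ).map U.mkQ = S.1
      rw [Submodule.map_comap_eq, Submodule.range_mkQ, top_inf_eq]
  have hN := card_subspace_mul (F := F) (V := V) m (by omega)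
  rw [← hN, Nat.card_congr e, Nat.card_sigma, Finset.sum_mul,
    Finset.sum_congr rfl (g := fun _ => pfac q m * pfac q (d - m)) (fun U _ => by rw [← hfib U]; ring),
    Finset.sum_const, Finset.card_univ, ← Nat.card_eq_fintype_card, smul_eq_mul]

theorem card_compl_eq (m : ℕ) :
    Nat.card {P : Submodule F V × Submodule F V // IsCompl P.1 P.2 ∧ finrank F P.1 = m} =
      Nat.card {U : Submodule F V // finrank F U = m} * Fintype.card F ^ (m * (finrank F V - m)) := by
  classical
  have : Fintype {U : Submodule F V // finrank F U = m} := Fintype.ofFinite _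
  let e : {P : Submodule F V × Submodule F V // IsCompl P.1 P.2 ∧ finrank F P.1 = m} ≃
      Σ U : {U : Submodule F V // finrank F U = m}, {W : Submodule F V // IsCompl U.1 W} :=
    { toFun := fun P => ⟨⟨P.1.1, P.2.2⟩, ⟨P.1.2, P.2.1⟩⟩
      invFun := fun x => ⟨(x.1.1, x.2.1), x.2.2, x.1.2⟩
      left_inv := fun P => rfl
      right_inv := fun x => rfl }
  rw [Nat.card_congr e, Nat.card_sigma, Finset.sum_congr rfl (fun U _ => ?_), Finset.sum_const,
    Finset.card_univ, ← Nat.card_eq_fintype_card (α := {U : Submodule F V // finrank F U = m}), smul_eq_mul]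
  obtain ⟨U, hU⟩ := U
  obtain ⟨W0, hW0⟩ := Submodule.exists_isCompl U
  have hd : finrank F W0 = finrank F V - m := by
    have := Submodule.finrank_add_eq_of_isCompl hW0
    omega
  let π : V →ₗ[F] U := Submodule.projectionOnto U W0 hW0
  let e2 : {f : V →ₗ[F] U // ∀ x : U, f x = x} ≃ (W0 →ₗ[F] U) :=
    { toFun := fun f => f.1.comp W0.subtype
      invFun := fun g => ⟨π + g.comp (Submodule.projectionOnto W0 U hW0.symm), fun x => by
        simp [π, Submodule.projectionOnto_apply_left, Submodule.projectionOnto_apply_right]⟩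
      left_inv := fun f => by
        refine Subtype.ext (LinearMap.ext fun v => ?_)
        simp only [LinearMap.add_apply, LinearMap.comp_apply, Submodule.subtype_apply, π]
        conv_rhs => rw [← Submodule.projection_add_projection_eq_self hW0 v]
        rw [map_add, ← Submodule.coe_projectionOnto_apply hW0 v, f.2,
          ← Submodule.coe_projectionOnto_apply hW0.symm v]
      right_inv := fun g => by
        refine LinearMap.ext fun w => ?_
        simp [π, Submodule.projectionOnto_apply_right, Submodule.projectionOnto_apply_left] }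
  rw [Nat.card_congr (Submodule.isComplEquivProj U), Nat.card_congr e2, Module.natCard_eq_pow_finrank (K := F),
    Module.finrank_linearMap, hd, hU, Nat.card_eq_fintype_card, mul_comm]

/-! ### Divisibility -/

theorem dvd_pow_sub_one_iff {q r : ℕ} [Fact r.Prime] (hq : 1 ≤ q) (s : ℕ) :
    r ∣ q ^ s - 1 ↔ orderOf (q : ZMod r) ∣ s := by
  rw [orderOf_dvd_iff_pow_eq_one, ← ZMod.natCast_eq_zero_iff, Nat.cast_sub (Nat.one_le_pow _ _ hq),
    Nat.cast_pow, Nat.cast_one, sub_eq_zero]

theorem not_dvd_of_mul_pfac {q r : ℕ} [hr : Fact r.Prime] (hq : 1 < q) {N Y n t : ℕ} (htn : t ≤ n)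
    (h : N * (Y * pfac q (n - t)) = pfac q n)
    (hnone : ∀ s, n - t < s → s ≤ n → ¬ orderOf (q : ZMod r) ∣ s) : ¬ r ∣ N := by
  intro hd
  rw [pfac_split q htn, ← mul_assoc, mul_comm (pfac q (n - t))] at h
  have h1 := Nat.eq_of_mul_eq_mul_right (pfac_pos hq _) h
  have h2 : r ∣ ∏ s ∈ Finset.Ico (n - t) n, (q ^ (s + 1) - 1) := h1 ▸ Dvd.dvd.mul_right hd Y
  obtain ⟨s, hs, hrs⟩ := (hr.out.prime.dvd_finsetProd_iff _).mp h2
  rw [Finset.mem_Ico] at hs
  exact hnone (s + 1) (by omega) (by omega) ((dvd_pow_sub_one_iff hq.le _).mp hrs)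

theorem no_multiple {i n t : ℕ} (ht : t ≤ n % i) {s : ℕ} (h1 : n - t < s) (h2 : s ≤ n) : ¬ i ∣ s := by
  rintro ⟨k, rfl⟩
  have h3 := Nat.div_add_mod n i
  rcases Nat.lt_or_ge (n / i) k with h | h
  · have := Nat.mul_le_mul_left i h
    rcases Nat.eq_zero_or_pos i with hi | hi
    · subst hi; omega
    · have := Nat.mod_lt n hi
      rw [Nat.mul_succ] at *
      omega
  · have := Nat.mul_le_mul_left i h
    omega

theorem orderOf_eq_zero_of_dvd {q r : ℕ} [Fact r.Prime] (h : r ∣ q) : orderOf (q : ZMod r) = 0 := by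
  rw [(ZMod.natCast_eq_zero_iff q r).mpr h]
  exact orderOf_zero (ZMod r)

end Cfsg.Agent.Linear.Elusive
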