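import Cfsg.Agent.Linear.Elusive.Roots
import Mathlib.RingTheory.Polynomial.Cyclotomic.Factorization
import Mathlib.FieldTheory.KummerPolynomial

/-!
The classification of the endomorphisms of `F ^ n` of determinant one with scalar `r`-th power,
`r` a prime different from the characteristic, and a general criterion.
-/

set_option autoImplicit false
set_option linter.unusedSectionVars false

namespace Cfsg.Agent.Linear.Elusive

open Polynomial Module

universe u v

variable {F : Type u} [Field F] [Fintype F] {p : ℕ} [Fact p.Prime] [CharP F p] {q r : ℕ}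
  [Fact r.Prime]

theorem cast_ne_zero (hrp : r ≠ p) : (r : F) ≠ 0 := fun h =>
  hrp ((Nat.prime_dvd_prime_iff_eq Fact.out Fact.out).mp ((CharP.cast_eq_zero_iff F p r).1 h)).symm

theorem not_dvd_q (hq : Fintype.card F = q) (hrp : r ≠ p) : ¬ r ∣ q := by
  obtain ⟨k, hp', hk⟩ := FiniteField.card F p
  rw [hk] at hq
  subst hq
  exact fun h => hrp ((Nat.prime_dvd_prime_iff_eq Fact.out Fact.out).mp
    ((Fact.out : r.Prime).dvd_of_dvd_pow h))

theorem orderOf_pos_of_ne (hq : Fintype.card F = q) (hrp : r ≠ p) : 0 < orderOf (q : ZMod r) := by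
  have hne : (q : ZMod r) ≠ 0 := fun h => not_dvd_q (F := F) hq hrp ((ZMod.natCast_eq_zero_iff q r).1 h)
  exact Nat.pos_of_dvd_of_pos (ZMod.orderOf_dvd_card_sub_one hne)
    (by have := (Fact.out : r.Prime).two_le; omega)

theorem orderOf_eq_one_iff (hq : Fintype.card F = q) : orderOf (q : ZMod r) = 1 ↔ r ∣ q - 1 := by
  have h1 : 1 ≤ q := hq ▸ Fintype.card_pos
  rw [_root_.orderOf_eq_one_iff, ← ZMod.natCast_eq_zero_iff (q - 1) r, Nat.cast_sub h1, Nat.cast_one,
    sub_eq_zero]

theorem uniform_cyclotomic (hq : Fintype.card F = q) (hrp : r ≠ p) :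
    Uniform (cyclotomic r F) (orderOf (q : ZMod r)) := by
  obtain ⟨k, hp', hk⟩ := FiniteField.card F p
  have hn : p.Coprime r := (Nat.coprime_primes Fact.out Fact.out).2 (Ne.symm hrp)
  refine ⟨cyclotomic_ne_zero r F, fun g hg hd => ?_⟩
  rw [Polynomial.natDegree_of_dvd_cyclotomic_of_irreducible hk hn hd hg, ← orderOf_units,
    ZMod.coe_unitOfCoprime, ← hk, hq]

theorem X_sub_one_mul_cyclotomic : (X - 1) * cyclotomic r F = X ^ r - 1 := by
  rw [mul_comm, cyclotomic_prime_mul_X_sub_one]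

theorem separable_pow_sub_one (hrp : r ≠ p) : (X ^ r - 1 : F[X]).Separable := by
  simpa using separable_X_pow_sub_C (1 : F) (cast_ne_zero (F := F) hrp) one_ne_zero

theorem isCoprime_cyclotomic (hrp : r ≠ p) : IsCoprime (X - 1 : F[X]) (cyclotomic r F) :=
  Separable.isCoprime (X_sub_one_mul_cyclotomic (F := F) (r := r) ▸ separable_pow_sub_one hrp)

theorem uniform_X_sub_one : Uniform (X - 1 : F[X]) 1 := by
  have h := uniform_of_irreducible (irreducible_X_sub_C (1 : F))
  rwa [natDegree_X_sub_C, map_one] at h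

variable {V : Type v} [AddCommGroup V] [Module F V] [FiniteDimensional F V]

/-- The fixed space. -/
noncomputable def fixSpace (T : End F V) : Submodule F V := LinearMap.ker (aeval T (X - 1 : F[X]))

theorem mem_fixSpace {T : End F V} {v : V} : v ∈ fixSpace T ↔ T v = v := by
  rw [fixSpace, LinearMap.mem_ker, map_sub, aeval_X, map_one, LinearMap.sub_apply,
    Module.End.one_apply, sub_eq_zero]

/-- The complement of the fixed space. -/
noncomputable def moveSpace (r : ℕ) (T : End F V) : Submodule F V :=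
  LinearMap.ker (aeval T (cyclotomic r F))

theorem aeval_split {T : End F V} (hT : T ^ r = 1) :
    aeval T ((X - 1 : F[X]) * cyclotomic r F) = 0 := by
  rw [X_sub_one_mul_cyclotomic, map_sub, map_pow, aeval_X, map_one, hT, sub_self]

theorem split_finrank (hrp : r ≠ p) {T : End F V} (hT : T ^ r = 1) {U : Submodule F V}
    (hU : Inv T U) :
    finrank F U = finrank F ↥(U ⊓ fixSpace T) + finrank F ↥(U ⊓ moveSpace r T) :=
  split_coprime (isCoprime_cyclotomic hrp) (aeval_split hT) hU

theorem disjoint_spaces (hrp : r ≠ p) (T : End F V) : Disjoint (fixSpace T) (moveSpace r T) := by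
  obtain ⟨a, b, hab⟩ := isCoprime_cyclotomic (F := F) (r := r) hrp
  rw [Submodule.disjoint_def]
  intro v hvf hvg
  rw [fixSpace, LinearMap.mem_ker] at hvf
  rw [moveSpace, LinearMap.mem_ker] at hvg
  calc v = aeval T (a * (X - 1) + b * cyclotomic r F) v := by rw [hab, map_one, Module.End.one_apply]
    _ = 0 := by
      rw [map_add, LinearMap.add_apply, map_mul, map_mul, Module.End.mul_apply,
        Module.End.mul_apply, hvf, hvg, map_zero, map_zero, add_zero]

theorem moveSpace_dvd (hq : Fintype.card F = q) (hrp : r ≠ p) {T : End F V} (U : Submodule F V)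
    (hU : Inv T U) : orderOf (q : ZMod r) ∣ finrank F ↥(U ⊓ moveSpace r T) :=
  dvd_finrank (uniform_cyclotomic hq hrp) (hU.inf (inv_ker_aeval T _)) fun _ hv =>
    LinearMap.mem_ker.1 hv.2

theorem dims_total (hq : Fintype.card F = q) (hrp : r ≠ p) {T : End F V} (hT : T ^ r = 1) :
    ∃ k, finrank F V = finrank F ↥(fixSpace T) + k * orderOf (q : ZMod r) ∧
      finrank F ↥(moveSpace r T) = k * orderOf (q : ZMod r) := by
  have h := split_finrank hrp hT (inv_top T)
  rw [top_inf_eq, top_inf_eq, finrank_top] at h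
  obtain ⟨k, hk⟩ := moveSpace_dvd hq hrp ⊤ (inv_top T)
  rw [top_inf_eq, mul_comm] at hk
  exact ⟨k, by rw [h, hk], hk⟩

/-- Invariant flags with prescribed dimensions. -/
theorem exists_flag (hq : Fintype.card F = q) (hrp : r ≠ p) {T : End F V} (s₁ s₂ t₁ t₂ : ℕ)
    (hs : s₁ ≤ s₂) (hs₂ : s₂ ≤ finrank F ↥(fixSpace T)) (ht : t₁ ≤ t₂)
    (ht₂ : t₂ * orderOf (q : ZMod r) ≤ finrank F ↥(moveSpace r T)) :
    ∃ U W : Submodule F V, U ≤ W ∧ Inv T U ∧ Inv T W ∧
      finrank F U = s₁ + t₁ * orderOf (q : ZMod r) ∧ finrank F W = s₂ + t₂ * orderOf (q : ZMod r) := by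
  have hA : Inv T (fixSpace T) := inv_ker_aeval T _
  have hB : Inv T (moveSpace r T) := inv_ker_aeval T _
  have kA : ∀ v ∈ fixSpace T, aeval T (X - 1 : F[X]) v = 0 := fun v hv => LinearMap.mem_ker.1 hv
  have kB : ∀ v ∈ moveSpace r T, aeval T (cyclotomic r F) v = 0 := fun v hv => LinearMap.mem_ker.1 hv
  obtain ⟨UA, hUA, iUA, dUA⟩ := exists_inv_finrank uniform_X_sub_one hA kA s₁ (by omega)
  rw [mul_one] at dUA
  obtain ⟨WA, hUWA, hWA, iWA, dWA⟩ := exists_above uniform_X_sub_one iUA hA hUA kA (s₂ - s₁) (by omega)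
  rw [mul_one] at dWA
  obtain ⟨UB, hUB, iUB, dUB⟩ := exists_inv_finrank (uniform_cyclotomic hq hrp) hB kB t₁
    ((Nat.mul_le_mul_right (orderOf (q : ZMod r)) ht).trans ht₂)
  have hsub : t₁ * orderOf (q : ZMod r) + (t₂ - t₁) * orderOf (q : ZMod r) = t₂ * orderOf (q : ZMod r) := by rw [← Nat.add_mul, Nat.add_sub_cancel' ht]
  obtain ⟨WB, hUWB, hWB, iWB, dWB⟩ :=
    exists_above (uniform_cyclotomic hq hrp) iUB hB hUB kB (t₂ - t₁) (by omega)
  refine ⟨UA ⊔ UB, WA ⊔ WB, sup_le_sup hUWA hUWB, iUA.sup iUB, iWA.sup iWB, ?_, ?_⟩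
  · rw [finrank_sup_eq (disjoint_spaces hrp T) hUA hUB, dUA, dUB]
  · rw [finrank_sup_eq (disjoint_spaces hrp T) hWA hWB, dWA, dWB, dUA, dUB]
    omega

/-- A space of dimension `m` exists. -/
theorem exists_space_split (hq : Fintype.card F = q) (hrp : r ≠ p) {T : End F V} (hT : T ^ r = 1)
    {m : ℕ} (hm : m ≤ finrank F V)
    (h : m % orderOf (q : ZMod r) ≤ finrank F V % orderOf (q : ZMod r)) :
    ∃ U : Submodule F V, finrank F U = m ∧ Inv T U := by
  obtain ⟨k, hk, hB⟩ := dims_total hq hrp hT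
  have hi := orderOf_pos_of_ne (F := F) hq hrp
  have hmi := Nat.div_add_mod m (orderOf (q : ZMod r))
  rw [hk, Nat.add_mul_mod_self_right] at h
  have ha := Nat.mod_le (finrank F ↥(fixSpace T)) (orderOf (q : ZMod r))
  have hcomm : m / orderOf (q : ZMod r) * orderOf (q : ZMod r) = orderOf (q : ZMod r) * (m / orderOf (q : ZMod r)) := mul_comm _ _
  obtain ⟨t, htk, htm, hs⟩ : ∃ t, t ≤ k ∧ t * orderOf (q : ZMod r) ≤ m ∧ m - t * orderOf (q : ZMod r) ≤ finrank F ↥(fixSpace T) := by
    rcases le_total (m / orderOf (q : ZMod r)) k with h' | h'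
    · exact ⟨m / orderOf (q : ZMod r), h', by omega, by omega⟩
    · refine ⟨k, le_rfl, ?_, by omega⟩
      have := Nat.mul_le_mul_right (orderOf (q : ZMod r)) h'
      omega
  obtain ⟨U, W, -, iU, -, dU, -⟩ := exists_flag hq hrp (T := T) (m - t * orderOf (q : ZMod r)) (m - t * orderOf (q : ZMod r)) t t le_rfl hs
    le_rfl (by rw [hB]; exact Nat.mul_le_mul_right (orderOf (q : ZMod r)) htk)
  exact ⟨U, by omega, iU⟩

/-- A flag of dimensions `(m, n - m)` exists. -/
theorem exists_flag_split (hq : Fintype.card F = q) (hrp : r ≠ p) {T : End F V} (hT : T ^ r = 1)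
    {m : ℕ} (hm : 2 * m ≤ finrank F V)
    (h : 2 * (m % orderOf (q : ZMod r)) ≤ finrank F V % orderOf (q : ZMod r)) :
    ∃ U W : Submodule F V, U ≤ W ∧ finrank F U = m ∧ finrank F W = finrank F V - m ∧
      Inv T U ∧ Inv T W := by
  obtain ⟨k, hk, hB⟩ := dims_total hq hrp hT
  have hi := orderOf_pos_of_ne (F := F) hq hrp
  have hmi := Nat.div_add_mod m (orderOf (q : ZMod r))
  rw [hk, Nat.add_mul_mod_self_right] at h
  have ha := Nat.mod_le (finrank F ↥(fixSpace T)) (orderOf (q : ZMod r))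
  have hcomm : m / orderOf (q : ZMod r) * orderOf (q : ZMod r) = orderOf (q : ZMod r) * (m / orderOf (q : ZMod r)) := mul_comm _ _
  obtain ⟨t, t', htk, htm, ht'm, hs⟩ : ∃ t t', t + t' ≤ k ∧ t * orderOf (q : ZMod r) ≤ m ∧ t' * orderOf (q : ZMod r) ≤ m ∧
      (m - t * orderOf (q : ZMod r)) + (m - t' * orderOf (q : ZMod r)) ≤ finrank F ↥(fixSpace T) := by
    rcases le_total (2 * (m / orderOf (q : ZMod r))) k with h' | h'
    · exact ⟨m / orderOf (q : ZMod r), m / orderOf (q : ZMod r), by omega, by omega, by omega, by omega⟩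
    rcases le_total (m / orderOf (q : ZMod r)) k with h'' | h''
    · refine ⟨m / orderOf (q : ZMod r), k - m / orderOf (q : ZMod r), by omega, by omega, ?_, ?_⟩
      · have := Nat.mul_le_mul_right (orderOf (q : ZMod r)) (show k - m / orderOf (q : ZMod r) ≤ m / orderOf (q : ZMod r) by omega)
        omega
      · have h3 : (k - m / orderOf (q : ZMod r)) * orderOf (q : ZMod r) + m / orderOf (q : ZMod r) * orderOf (q : ZMod r) = k * orderOf (q : ZMod r) := by
          rw [← Nat.add_mul, Nat.sub_add_cancel h'']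
        have h4 := Nat.mul_le_mul_right (orderOf (q : ZMod r)) (show k - m / orderOf (q : ZMod r) ≤ m / orderOf (q : ZMod r) by omega)
        omega
    · refine ⟨k, 0, by omega, ?_, by omega, ?_⟩
      · have := Nat.mul_le_mul_right (orderOf (q : ZMod r)) h''
        omega
      · have := Nat.mul_le_mul_right (orderOf (q : ZMod r)) h''
        omega
  have h5 : (k - t') * orderOf (q : ZMod r) + t' * orderOf (q : ZMod r) = k * orderOf (q : ZMod r) := by rw [← Nat.add_mul, Nat.sub_add_cancel (by omega)]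
  obtain ⟨U, W, hUW, iU, iW, dU, dW⟩ := exists_flag hq hrp (T := T) (m - t * orderOf (q : ZMod r))
    (finrank F ↥(fixSpace T) - (m - t' * orderOf (q : ZMod r))) t (k - t') (by omega) (by omega) (by omega)
    (by rw [hB]; omega)
  exact ⟨U, W, hUW, by omega, by omega, iU, iW⟩

/-- The dimensions met when the fixed space is as small as possible. -/
theorem space_split_small (hq : Fintype.card F = q) (hrp : r ≠ p) {T : End F V} (hT : T ^ r = 1)
    (hfix : finrank F ↥(fixSpace T) = finrank F V % orderOf (q : ZMod r)) {U : Submodule F V}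
    (hU : Inv T U) :
    finrank F U % orderOf (q : ZMod r) ≤ finrank F V % orderOf (q : ZMod r) := by
  have h := split_finrank hrp hT hU
  obtain ⟨k, hk⟩ := moveSpace_dvd hq hrp U hU
  rw [hk] at h
  rw [h, Nat.add_mul_mod_self_left, ← hfix]
  exact (Nat.mod_le _ _).trans (Submodule.finrank_mono inf_le_right)

theorem flag_split_small (hq : Fintype.card F = q) (hrp : r ≠ p) {T : End F V} (hT : T ^ r = 1)
    (hfix : finrank F ↥(fixSpace T) = finrank F V % orderOf (q : ZMod r)) {U W : Submodule F V}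
    (hU : Inv T U) (hW : Inv T W) (hUW : U ≤ W) {m : ℕ} (dU : finrank F U = m)
    (dW : finrank F W = finrank F V - m) :
    2 * (m % orderOf (q : ZMod r)) ≤ finrank F V % orderOf (q : ZMod r) := by
  have hi := orderOf_pos_of_ne (F := F) hq hrp
  have hUm := Submodule.finrank_le U
  have h1 := split_finrank hrp hT hU
  have h2 := split_finrank hrp hT hW
  obtain ⟨k₁, hk₁⟩ := moveSpace_dvd hq hrp U hU
  obtain ⟨k₂, hk₂⟩ := moveSpace_dvd hq hrp W hW
  obtain ⟨k, hk, -⟩ := dims_total hq hrp hT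
  have hmono : finrank F ↥(U ⊓ fixSpace T) ≤ finrank F ↥(W ⊓ fixSpace T) :=
    Submodule.finrank_mono (inf_le_inf_right _ hUW)
  have hle : finrank F ↥(W ⊓ fixSpace T) ≤ finrank F V % orderOf (q : ZMod r) :=
    hfix ▸ Submodule.finrank_mono inf_le_right
  have hlt := Nat.mod_lt (finrank F V) hi
  rw [dU, hk₁] at h1
  rw [dW, hk₂] at h2
  rw [hfix] at hk
  set i := orderOf (q : ZMod r)
  have hm1 : m % i = finrank F ↥(U ⊓ fixSpace T) := by
    rw [h1, Nat.add_mul_mod_self_left, Nat.mod_eq_of_lt (by omega)]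
  set s1 := finrank F ↥(U ⊓ fixSpace T)
  set s2 := finrank F ↥(W ⊓ fixSpace T)
  set a := finrank F V % i
  have key : (s1 + s2) % i = a := by
    have e : s1 + s2 + i * (k₁ + k₂) = a + k * i := by rw [Nat.mul_add]; omega
    have := congrArg (· % i) e
    simp only [Nat.add_mul_mod_self_left, Nat.add_mul_mod_self_right] at this
    rw [this, Nat.mod_eq_of_lt hlt]
  rw [hm1]
  rcases Nat.lt_or_ge (s1 + s2) i with h' | h'
  · rw [Nat.mod_eq_of_lt h'] at key; omega
  · rw [Nat.mod_eq_sub_mod h', Nat.mod_eq_of_lt (by omega)] at key; omega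

end Cfsg.Agent.Linear.Elusive
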