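import Cfsg.Agent.Linear.Elusive.Roots
import Cfsg.Agent.H99.Chains

/-!
Invariant decompositions for elements of order `p` in characteristic `p`.
-/

set_option autoImplicit false
set_option linter.unusedSectionVars false

namespace Cfsg.Agent.Linear.Elusive

open Polynomial Module Cfsg.Agent.H99

universe u

/-- A sub-multiset of the values comes from a subset. -/
theorem exists_subset_sum {ι : Type*} [DecidableEq ι] (f : ι → ℕ) (s : Finset ι) :
    ∀ ν ≤ s.val.map f, ∃ t ⊆ s, ∑ i ∈ t, f i = ν.sum := by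
  induction s using Finset.induction_on with
  | empty =>
    intro ν hν
    rw [Finset.empty_val, Multiset.map_zero, Multiset.le_zero] at hν
    exact ⟨∅, le_rfl, by rw [hν, Multiset.sum_zero, Finset.sum_empty]⟩
  | insert a s ha ih =>
    intro ν hν
    rw [Finset.insert_val_of_notMem ha, Multiset.map_cons] at hν
    by_cases hmem : f a ∈ ν
    · have h := Multiset.erase_le_erase (f a) hν
      rw [Multiset.erase_cons_head] at h
      obtain ⟨t, ht, hsum⟩ := ih _ h
      refine ⟨insert a t, Finset.insert_subset_insert a ht, ?_⟩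
      rw [Finset.sum_insert (fun h' => ha (ht h')), hsum, ← Multiset.sum_cons, Multiset.cons_erase hmem]
    · obtain ⟨t, ht, hsum⟩ := ih ν ((Multiset.le_cons_of_notMem hmem).1 hν)
      exact ⟨t, ht.trans (Finset.subset_insert a s), hsum⟩

theorem two_parts_iff (n m : ℕ) (hmn : 2 * m < n) :
    (∀ μ : Multiset ℕ, (∀ a ∈ μ, 0 < a ∧ a ≤ 2) → μ.sum = n → ∃ ν : Multiset ℕ, ν ≤ μ ∧ ν.sum = m) ↔
      (Odd n ∨ Even m) := by
  constructor
  · intro h
    by_contra hno
    rw [Nat.odd_iff, Nat.even_iff] at hno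
    obtain ⟨ν, hν, hsum⟩ := h (Multiset.replicate (n / 2) 2)
      (fun a ha => by rw [Multiset.eq_of_mem_replicate ha]; omega)
      (by rw [Multiset.sum_replicate, smul_eq_mul]; omega)
    obtain ⟨k, -, rfl⟩ := Multiset.le_replicate_iff.1 hν
    rw [Multiset.sum_replicate, smul_eq_mul] at hsum
    omega
  · intro h μ hμ hsum
    rw [Nat.odd_iff, Nat.even_iff] at h
    obtain ⟨a, b, rfl⟩ : ∃ a b, μ = Multiset.replicate a 2 + Multiset.replicate b 1 := by
      refine ⟨μ.count 2, μ.count 1, Multiset.ext.2 fun c => ?_⟩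
      rw [Multiset.count_add, Multiset.count_replicate, Multiset.count_replicate]
      by_cases h2 : c = 2
      · subst h2; simp
      by_cases h1 : c = 1
      · subst h1; simp
      rw [if_neg (Ne.symm h2), if_neg (Ne.symm h1), add_zero, Multiset.count_eq_zero]
      intro hc
      have := hμ c hc
      omega
    rw [Multiset.sum_add, Multiset.sum_replicate, Multiset.sum_replicate, smul_eq_mul, smul_eq_mul] at hsum
    obtain ⟨t, hta, htm, hrest⟩ : ∃ t, t ≤ a ∧ 2 * t ≤ m ∧ m - 2 * t ≤ b := by
      rcases le_total (m / 2) a with h' | h'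
      · exact ⟨m / 2, h', by omega, by omega⟩
      · exact ⟨a, le_rfl, by omega, by omega⟩
    refine ⟨Multiset.replicate t 2 + Multiset.replicate (m - 2 * t) 1,
      add_le_add ((Multiset.replicate_le_replicate 2).2 hta) ((Multiset.replicate_le_replicate 1).2 hrest), ?_⟩
    rw [Multiset.sum_add, Multiset.sum_replicate, Multiset.sum_replicate, smul_eq_mul, smul_eq_mul]
    omega

variable {F : Type u} [Field F] [Finite F] {p : ℕ} [Fact p.Prime] [CharP F p]

/-- An element of order `p` always fixes a decomposition iff the partitions of `n` into parts at most `p` allow it. -/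
theorem unipotent_iff (n m : ℕ) (hn : 1 ≤ n) (hmn : m ≤ n) :
    (∀ T : End F (Fin n → F), LinearMap.det T = 1 → (∃ c : F, T ^ p = c • 1) → (∀ c : F, T ≠ c • 1) →
      ∃ U W : Submodule F (Fin n → F), IsCompl U W ∧ finrank F U = m ∧ Inv T U ∧ Inv T W) ↔
    ∀ μ : Multiset ℕ, (∀ a ∈ μ, 0 < a ∧ a ≤ p) → μ.sum = n → ∃ ν : Multiset ℕ, ν ≤ μ ∧ ν.sum = m := by
  have hp := (Fact.out : p.Prime)
  haveI : Nonempty (Fin n) := ⟨⟨0, hn⟩⟩
  haveI : CharP (End F (Fin n → F)) p :=
    charP_of_injective_algebraMap (algebraMap F (End F (Fin n → F))).injective p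
  have hinj : Function.Injective (frobenius F p) := frobenius_inj F p
  constructor
  · intro hall μ hμ hsum
    by_cases hones : ∀ a ∈ μ, a = 1
    · refine ⟨Multiset.replicate m 1, ?_, by rw [Multiset.sum_replicate, smul_eq_mul, mul_one]⟩
      rw [Multiset.eq_replicate_card.2 hones] at hsum ⊢
      rw [Multiset.sum_replicate, smul_eq_mul, mul_one] at hsum
      exact (Multiset.replicate_le_replicate 1).2 (by omega)
    push Not at hones
    obtain ⟨a, ha, ha1⟩ := hones
    obtain ⟨L, ms, hms⟩ : ∃ (L : ℕ) (ms : Fin L → ℕ), Finset.univ.val.map ms = μ :=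
      ⟨μ.toList.length, μ.toList.get, by rw [Fin.univ_val_map, List.ofFn_get, Multiset.coe_toList]⟩
    have hbd : ∀ i, 0 < ms i ∧ ms i ≤ p := fun i => hμ _ (by rw [← hms]; exact Multiset.mem_map_of_mem _ (Finset.mem_univ_val i))
    have hcard : Fintype.card ((i : Fin L) × Fin (ms i)) = n := by
      rw [Fintype.card_sigma, ← hsum, ← hms]
      simp [List.sum_ofFn]
    let b : Module.Basis ((i : Fin L) × Fin (ms i)) F (Fin n → F) :=
      (Pi.basisFun F (Fin n)).reindex (Fintype.equivFinOfCardEq hcard).symm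
    set N := shiftEnd b with hNdef
    have hNp : N ^ p = 0 := shiftEnd_pow_eq_zero b fun i => (hbd i).2
    have hT : (1 + N) ^ p = 1 := by
      rw [add_pow_char_of_commute _ (Commute.one_left N), one_pow, hNp, add_zero]
    have hdet : LinearMap.det (1 + N) = 1 := hinj (by
      rw [frobenius_def, frobenius_def, ← map_pow, hT, map_one, one_pow])
    have hns : ∀ c : F, 1 + N ≠ c • 1 := by
      intro c hc
      have h1 := hT
      rw [hc, _root_.smul_pow, one_pow] at h1
      have hcp : c ^ p = 1 := smul_left_injective F (one_ne_zero (α := End F (Fin n → F)))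
        (show c ^ p • (1 : End F (Fin n → F)) = (1 : F) • 1 by rw [h1, one_smul])
      have hc1 : c = 1 := hinj (by rw [frobenius_def, frobenius_def, hcp, one_pow])
      rw [hc1, one_smul, add_eq_left] at hc
      obtain ⟨i, rfl⟩ : ∃ i, ms i = a := by
        rw [← hms] at ha
        obtain ⟨i, -, hi⟩ := Multiset.mem_map.1 ha
        exact ⟨i, hi⟩
      have h2 := shiftEnd_pow_apply b ⟨i, ⟨0, (hbd i).1⟩⟩ 1
      rw [dif_pos (show 0 + 1 < ms i by have := (hbd i).1; omega), pow_one, ← hNdef, hc, LinearMap.zero_apply] at h2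
      exact b.ne_zero _ h2.symm
    obtain ⟨U, W, hc, hU, iU, iW⟩ := hall _ hdet ⟨1, by rw [hT, one_smul]⟩ hns
    refine ⟨blockParts N U p, ?_, ?_⟩
    · have h3 := blockParts_le N U W (Inv.one_add_iff.1 iU) (Inv.one_add_iff.1 iW) hc p
      rwa [blockParts_shiftEnd b hbd, hms] at h3
    · rw [sum_blockParts N U (Inv.one_add_iff.1 iU) p hNp, hU]
  · intro hμ T hd ⟨c, hc⟩ _
    obtain ⟨d, hd'⟩ := (Finite.injective_iff_surjective.1 hinj) c
    rw [frobenius_def] at hd'
    have hd0 : d ≠ 0 := by
      intro h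
      have h2 := congrArg LinearMap.det hc
      rw [map_pow, hd, one_pow, ← hd', h, zero_pow hp.ne_zero, zero_smul] at h2
      rw [LinearMap.det_zero, Module.finrank_fin_fun, zero_pow (by omega)] at h2
      exact one_ne_zero h2
    set N := d⁻¹ • T - 1 with hNdef
    have hN : N ^ p = 0 := by
      rw [hNdef, sub_pow_char_of_commute _ (Commute.one_right _), _root_.smul_pow, hc, one_pow, smul_smul,
        inv_pow, hd', inv_mul_cancel₀ (hd' ▸ pow_ne_zero _ hd0), one_smul, sub_self]
    obtain ⟨L, ms, b, hbd, hshift⟩ := exists_shift_basis N hN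
    obtain ⟨ν, hν, hsum⟩ := hμ (Finset.univ.val.map ms)
      (fun a ha => by obtain ⟨i, -, rfl⟩ := Multiset.mem_map.1 ha; exact hbd i)
      (by
        have h2 := Module.finrank_eq_card_basis b
        rw [Module.finrank_fin_fun, Fintype.card_sigma] at h2
        rw [h2]
        simp [List.sum_ofFn])
    obtain ⟨S, -, hS⟩ := exists_subset_sum ms Finset.univ ν hν
    have hinv : ∀ Z : Finset (Fin L), Inv T (Submodule.span F (b '' {x | x.1 ∈ Z})) := by
      intro Z
      have h1 : Inv N (Submodule.span F (b '' {x | x.1 ∈ Z})) := by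
        refine (Submodule.map_span_le _ _ _).2 ?_
        rintro _ ⟨x, hx, rfl⟩
        rw [← hshift, shiftEnd, Module.Basis.constr_basis]
        split
        · rename_i h
          exact Submodule.subset_span ⟨⟨x.1, ⟨_, h⟩⟩, hx, rfl⟩
        · exact Submodule.zero_mem _
      have h2 := Inv.one_add_iff.2 h1
      rw [hNdef, add_sub_cancel] at h2
      exact (Inv.smul_iff (inv_ne_zero hd0)).1 h2
    refine ⟨_, _, LinearIndependent.isCompl_span_image b.linearIndependent b.span_eq
      (s := {x : (i : Fin L) × Fin (ms i) | x.1 ∈ S}) (t := {x | x.1 ∈ Sᶜ}) ?_, ?_, hinv S, hinv Sᶜ⟩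
    · have e : ({x : (i : Fin L) × Fin (ms i) | x.1 ∈ Sᶜ}) = {x | x.1 ∈ S}ᶜ := by
        ext x; simp
      rw [e]
      exact isCompl_compl
    · classical
      have himg : b '' {x : (i : Fin L) × Fin (ms i) | x.1 ∈ S} =
          Set.range (b ∘ (Subtype.val : ↥(S.sigma fun _ => (Finset.univ : Finset (Fin _))) → (i : Fin L) × Fin (ms i))) := by
        ext v
        constructor
        · rintro ⟨x, hx, rfl⟩; exact ⟨⟨x, Finset.mem_sigma.2 ⟨hx, Finset.mem_univ _⟩⟩, rfl⟩
        · rintro ⟨⟨x, hx⟩, rfl⟩; exact ⟨x, (Finset.mem_sigma.1 hx).1, rfl⟩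
      rw [himg, finrank_span_eq_card (b.linearIndependent.comp _ Subtype.val_injective), Fintype.card_coe,
        Finset.card_sigma, ← hsum, ← hS]
      simp

end Cfsg.Agent.Linear.Elusive
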