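import Cfsg.Agent.Linear.Elusive.Invariant
import Cfsg.Agent.H99.Jordan

/-!
Endomorphisms over a finite field whose `r`-th power is a scalar.
-/

set_option autoImplicit false
set_option linter.unusedSectionVars false

namespace Cfsg.Agent.Linear.Elusive

open Polynomial Module

universe u v

variable {F : Type u} [Field F]

theorem uniform_of_irreducible {g : F[X]} (hg : Irreducible g) : Uniform g g.natDegree :=
  ⟨hg.ne_zero, fun h hh hd => natDegree_eq_of_degree_eq (degree_eq_degree_of_associated
    (hh.associated_of_dvd hg hd))⟩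

theorem uniform_pow {g : F[X]} {d : ℕ} (hg : Uniform g d) (e : ℕ) : Uniform (g ^ e) d :=
  ⟨pow_ne_zero e hg.1, fun h hh hd => hg.2 h hh (hh.prime.dvd_of_dvd_pow hd)⟩

variable {V : Type v} [AddCommGroup V] [Module F V]

theorem Inv.smul_iff {T : End F V} {U : Submodule F V} {d : F} (hd : d ≠ 0) :
    Inv (d • T) U ↔ Inv T U := by
  constructor
  · rintro h _ ⟨v, hv, rfl⟩
    have h2 := U.smul_mem d⁻¹ (h.mem hv)
    rwa [LinearMap.smul_apply, smul_smul, inv_mul_cancel₀ hd, one_smul] at h2
  · rintro h _ ⟨v, hv, rfl⟩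
    exact U.smul_mem d (h.mem hv)

theorem Inv.one_add_iff {N : End F V} {U : Submodule F V} : Inv (1 + N) U ↔ Inv N U := by
  constructor
  · rintro h _ ⟨v, hv, rfl⟩
    have h2 := sub_mem (h.mem hv) hv
    simpa using h2
  · rintro h _ ⟨v, hv, rfl⟩
    rw [LinearMap.add_apply, Module.End.one_apply]
    exact add_mem hv (h.mem hv)

theorem inv_ker_aeval (T : End F V) (f : F[X]) : Inv T (LinearMap.ker (aeval T f)) := by
  rintro _ ⟨v, hv, rfl⟩
  rw [SetLike.mem_coe, LinearMap.mem_ker] at hv
  rw [LinearMap.mem_ker]
  have : aeval T f (T v) = T (aeval T f v) := by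
    have e : aeval T f * T = T * aeval T f := by
      calc aeval T f * T = aeval T (f * X) := by rw [map_mul, aeval_X]
        _ = aeval T (X * f) := by rw [mul_comm]
        _ = _ := by rw [map_mul, aeval_X]
    rw [← Module.End.mul_apply, e, Module.End.mul_apply]
  rw [this, hv, map_zero]

variable [FiniteDimensional F V]

/-- An invariant subspace splits along coprime factors. -/
theorem split_coprime {T : End F V} {f g : F[X]} (hfg : IsCoprime f g) (h : aeval T (f * g) = 0)
    {U : Submodule F V} (hU : Inv T U) :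
    finrank F U = finrank F ↥(U ⊓ LinearMap.ker (aeval T f)) +
      finrank F ↥(U ⊓ LinearMap.ker (aeval T g)) := by
  have key : ∀ (a f g : F[X]), aeval T (f * g) = 0 → ∀ v, aeval T (a * g) v ∈ LinearMap.ker (aeval T f) := by
    intro a f g h v
    rw [LinearMap.mem_ker, ← Module.End.mul_apply, ← map_mul, show f * (a * g) = a * (f * g) by ring,
      map_mul, h, mul_zero, LinearMap.zero_apply]
  obtain ⟨a, b, hab⟩ := hfg
  have hsup : U ⊓ LinearMap.ker (aeval T f) ⊔ U ⊓ LinearMap.ker (aeval T g) = U := by
    refine le_antisymm (sup_le inf_le_left inf_le_left) fun v hv => ?_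
    have e : aeval T (b * g) v + aeval T (a * f) v = v := by
      rw [← LinearMap.add_apply, ← map_add, add_comm, hab, map_one, Module.End.one_apply]
    rw [← e]
    exact Submodule.add_mem_sup ⟨hU.aeval_mem _ hv, key b f g h v⟩
      ⟨hU.aeval_mem _ hv, key a g f (by rw [mul_comm]; exact h) v⟩
  have hdisj : Disjoint (LinearMap.ker (aeval T f)) (LinearMap.ker (aeval T g)) := by
    rw [Submodule.disjoint_def]
    intro v hvf hvg
    rw [LinearMap.mem_ker] at hvf hvg
    calc v = aeval T (a * f + b * g) v := by rw [hab, map_one, Module.End.one_apply]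
      _ = 0 := by
        rw [map_add, LinearMap.add_apply, map_mul, map_mul, Module.End.mul_apply,
          Module.End.mul_apply, hvf, hvg, map_zero, map_zero, add_zero]
  have h2 := Submodule.finrank_sup_add_finrank_inf_eq (U ⊓ LinearMap.ker (aeval T f))
    (U ⊓ LinearMap.ker (aeval T g))
  rw [hsup, disjoint_iff.1 (hdisj.mono inf_le_right inf_le_right), finrank_bot, add_zero] at h2
  exact h2

/-- Sums inside complementary invariant subspaces. -/
theorem finrank_sup_eq {A B U1 U2 : Submodule F V} (hdisj : Disjoint A B) (h1 : U1 ≤ A) (h2 : U2 ≤ B) :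
    finrank F ↥(U1 ⊔ U2) = finrank F U1 + finrank F U2 := by
  have h := Submodule.finrank_sup_add_finrank_inf_eq U1 U2
  rwa [disjoint_iff.1 (hdisj.mono h1 h2), finrank_bot, add_zero] at h

/-- The determinant of an endomorphism annihilated by an irreducible monic polynomial. -/
theorem det_of_irreducible {T : End F V} {P : F[X]} (hP : Irreducible P) (hm : P.Monic)
    (h : aeval T P = 0) :
    ∃ k, finrank F V = P.natDegree * k ∧
      LinearMap.det T = ((-1) ^ P.natDegree * P.coeff 0) ^ k := by
  haveI : Fact (Irreducible P) := ⟨hP⟩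
  let φ : AdjoinRoot P →ₐ[F] End F V :=
    Ideal.Quotient.liftₐ _ (aeval T) fun f hf => by
      obtain ⟨a, rfl⟩ := Ideal.mem_span_singleton.1 hf
      rw [map_mul, h, zero_mul]
  letI : Module (AdjoinRoot P) V := Module.compHom V φ.toRingHom
  haveI : IsScalarTower F (AdjoinRoot P) V := by
    refine IsScalarTower.of_algebraMap_smul fun a v => ?_
    show φ (algebraMap F (AdjoinRoot P) a) v = _
    rw [AlgHom.commutes, Module.algebraMap_end_apply]
  haveI : Module.Finite F (AdjoinRoot P) := hm.finite_adjoinRoot
  haveI : Module.Finite (AdjoinRoot P) V := Module.Finite.of_restrictScalars_finite F _ _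
  have hroot : φ (AdjoinRoot.root P) = T := by
    show aeval T X = T
    exact aeval_X T
  let L : End (AdjoinRoot P) V := AdjoinRoot.root P • 1
  have hL : L.restrictScalars F = T := LinearMap.ext fun v => by
    show φ (AdjoinRoot.root P) v = T v
    rw [hroot]
  have hdeg : finrank F (AdjoinRoot P) = P.natDegree :=
    ((AdjoinRoot.powerBasis hP.ne_zero).finrank).trans (AdjoinRoot.powerBasis_dim hP.ne_zero)
  refine ⟨finrank (AdjoinRoot P) V, ?_, ?_⟩
  · rw [← hdeg]
    exact (Module.finrank_mul_finrank F (AdjoinRoot P) V).symm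
  · rw [← hL, LinearMap.det_restrictScalars,
      show LinearMap.det L = AdjoinRoot.root P ^ finrank (AdjoinRoot P) V by
        rw [LinearMap.det_smul, map_one, mul_one], map_pow]
    congr 1
    have hn := Algebra.PowerBasis.norm_gen_eq_coeff_zero_minpoly (AdjoinRoot.powerBasis hP.ne_zero)
    rw [AdjoinRoot.powerBasis_gen, AdjoinRoot.powerBasis_dim,
      AdjoinRoot.minpoly_root hP.ne_zero, hm.leadingCoeff, inv_one, map_one, mul_one] at hn
    exact hn

end Cfsg.Agent.Linear.Elusive
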